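import Mathlib
import Cfsg.Agent.H622.Levi.Semi

/-!
# S4816, TOOL-HC: elements which interchange the root groups of `SL_n(F)`, `n ≥ 3` (helper297)

The general case of `H622/Levi/Semi.lean` (`n = 3`): an element `g` with
`g φ(x_{ab}(s)) g⁻¹ ∈ φ(X_{rev b, rev a})` induces `x ↦ C (x^τ)^{-T} C⁻¹` on the image of `SL_n(F)`.
-/

set_option autoImplicit false
set_option linter.unusedSectionVars false

namespace Cfsg.Agent.H297.RIM

open Matrix
open Cfsg.Agent.TitsThree.KSideA (tv tv_of_ne tv_add tv_zero tv_neg tv_comm)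
open Cfsg.Agent.H622.Levi (swapHom coe_swapHom)
open scoped commutatorElement

section ring

variable {F : Type*} [Field F] [Finite F] {n : ℕ}

theorem exists_ringEquiv (hn : 3 ≤ n) {f : Fin n → Fin n → F → F}
    (hadd : ∀ a b, a ≠ b → ∀ s t, f a b (s + t) = f a b s + f a b t)
    (hmul : ∀ a b c, a ≠ b → b ≠ c → a ≠ c → ∀ s t, f a c (s * t) = f a b s * f b c t)
    (hne : ∀ a b, a ≠ b → f a b 1 ≠ 0) :
    ∃ (τ : F ≃+* F) (d : Fin n → F), (∀ a, d a ≠ 0) ∧ ∀ a b, a ≠ b → ∀ t, f a b t = d a * τ t * (d b)⁻¹ := by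
  classical
  obtain ⟨o, ho⟩ : ∃ o : Fin n, o = ⟨0, by omega⟩ := ⟨_, rfl⟩
  obtain ⟨i1, hi1⟩ : ∃ i : Fin n, i = ⟨1, by omega⟩ := ⟨_, rfl⟩
  obtain ⟨i2, hi2⟩ : ∃ i : Fin n, i = ⟨2, by omega⟩ := ⟨_, rfl⟩
  have h01 : o ≠ i1 := by rw [ho, hi1]; intro h; exact absurd (congrArg Fin.val h) (by norm_num)
  have h02 : o ≠ i2 := by rw [ho, hi2]; intro h; exact absurd (congrArg Fin.val h) (by norm_num)
  have h12 : i1 ≠ i2 := by rw [hi1, hi2]; intro h; exact absurd (congrArg Fin.val h) (by norm_num)
  have c01 := hne o i1 h01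
  -- a third index
  have third : ∀ a : Fin n, o ≠ a → ∃ c : Fin n, o ≠ c ∧ a ≠ c := by
    intro a ha
    by_cases h : a = i1
    · exact ⟨i2, h02, by rw [h]; exact h12⟩
    · exact ⟨i1, h01, h⟩
  -- the normalized functions of the first row
  have row : ∀ b, o ≠ b → ∀ s, f o b s = f o i1 s * (f o i1 1)⁻¹ * f o b 1 := by
    have key : ∀ b c, o ≠ b → o ≠ c → b ≠ c → ∀ s, f o c s = f o b s * (f o b 1)⁻¹ * f o c 1 := by
      intro b c hb hc hbc s
      have h1 := hmul o b c hb hbc hc s 1
      have h2 := hmul o b c hb hbc hc 1 1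
      rw [mul_one] at h1 h2
      rw [h1, h2]
      have := hne o b hb
      field_simp
    intro b hb s
    by_cases h : b = i1
    · rw [h]; field_simp
    · exact key i1 b h01 hb (Ne.symm h) s
  let τ₀ : F →+* F :=
    { toFun := fun s => f o i1 s * (f o i1 1)⁻¹
      map_one' := mul_inv_cancel₀ c01
      map_zero' := by
        have h1 := hadd o i1 h01 0 0
        rw [add_zero] at h1
        have h2 : f o i1 0 = 0 := by
          have : f o i1 0 + 0 = f o i1 0 + f o i1 0 := by rw [add_zero]; exact h1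
          exact (add_left_cancel this).symm
        rw [h2, zero_mul]
      map_add' := fun s t => by rw [hadd o i1 h01, add_mul]
      map_mul' := fun s t => by
        have h1 := hmul o i1 i2 h01 h12 h02 s t
        have h2 := hmul o i1 i2 h01 h12 h02 1 t
        rw [one_mul] at h2
        rw [row i2 h02 (s * t)] at h1
        rw [row i2 h02 t] at h2
        have c02 := hne o i2 h02
        have h3 : f i1 i2 t = (f o i1 1)⁻¹ * (f o i1 t * (f o i1 1)⁻¹ * f o i2 1) := by
          rw [h2]; field_simp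
        rw [h3] at h1
        apply mul_right_cancel₀ c02
        rw [h1]
        ring }
  have hbij : Function.Bijective τ₀ := Finite.injective_iff_bijective.1 τ₀.injective
  let τ : F ≃+* F := RingEquiv.ofBijective τ₀ hbij
  have hτ : ∀ s, τ s = f o i1 s * (f o i1 1)⁻¹ := fun s => rfl
  have row' : ∀ b, o ≠ b → ∀ s, f o b s = τ s * f o b 1 := fun b hb s => by rw [hτ]; exact row b hb s
  obtain ⟨d, hd0, hd⟩ : ∃ d : Fin n → F, d o = 1 ∧ ∀ a, o ≠ a → d a = (f o a 1)⁻¹ :=
    ⟨fun a => if a = o then 1 else (f o a 1)⁻¹, if_pos rfl, fun a ha => if_neg (Ne.symm ha)⟩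
  refine ⟨τ, d, ?_, ?_⟩
  · intro a
    by_cases h : a = o
    · rw [h, hd0]; exact one_ne_zero
    · rw [hd a (Ne.symm h)]; exact inv_ne_zero (hne o a (Ne.symm h))
  · intro a b hab t
    by_cases ha : a = o
    · rw [ha] at hab ⊢
      rw [hd0, hd b hab, row' b hab, one_mul, inv_inv]
    · have ha' : o ≠ a := Ne.symm ha
      have hca := hne o a ha'
      rw [hd a ha']
      by_cases hb : b = o
      · rw [hb] at hab ⊢
        rw [hd0, inv_one, mul_one]
        obtain ⟨c, hc1, hc2⟩ := third a ha'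
        have h1 := hmul a o c hab hc1 hc2 t 1
        rw [mul_one] at h1
        have h2 := hmul o a c ha' hc2 hc1 1 t
        rw [one_mul, row' c hc1] at h2
        have hcc := hne o c hc1
        have h3 : f a c t = (f o a 1)⁻¹ * (τ t * f o c 1) := by rw [h2]; field_simp
        rw [h3] at h1
        have h4 : f a o t = (f o a 1)⁻¹ * (τ t * f o c 1) * (f o c 1)⁻¹ := by rw [h1]; field_simp
        rw [h4]
        field_simp
      · have hb' : o ≠ b := Ne.symm hb
        rw [hd b hb', inv_inv]
        have h2 := hmul o a b ha' hab hb' 1 t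
        rw [one_mul, row' b hb'] at h2
        rw [mul_assoc, h2]
        field_simp

end ring

section swap

variable {F : Type*} [Field F] {n : ℕ}

/-- the monomial matrix of the swap -/
def swapC (d : Fin n → F) (hd : ∀ a, d a ≠ 0) : GL (Fin n) F where
  val := Matrix.of fun i j => if i = Fin.rev j then (d j)⁻¹ else 0
  inv := Matrix.of fun i j => if j = Fin.rev i then d i else 0
  val_inv := by
    ext i j
    rw [Matrix.mul_apply, Matrix.one_apply, Finset.sum_eq_single (Fin.rev i)]
    · simp only [Matrix.of_apply, Fin.rev_rev, if_true]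
      by_cases h : i = j
      · rw [if_pos h.symm, if_pos h, inv_mul_cancel₀ (hd _)]
      · rw [if_neg (Ne.symm h), if_neg h, mul_zero]
    · intro k _ hk
      rw [Matrix.of_apply, if_neg, zero_mul]
      rintro rfl
      exact hk (Fin.rev_rev k).symm
    · intro h
      exact absurd (Finset.mem_univ _) h
  inv_val := by
    ext i j
    rw [Matrix.mul_apply, Matrix.one_apply, Finset.sum_eq_single (Fin.rev i)]
    · simp only [Matrix.of_apply, if_true]
      by_cases h : i = j
      · rw [if_pos (congrArg Fin.rev h), if_pos h, h, mul_inv_cancel₀ (hd _)]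
      · rw [if_neg (fun h' => h (Fin.rev_injective h')), if_neg h, mul_zero]
    · intro k _ hk
      rw [Matrix.of_apply, if_neg hk, zero_mul]
    · intro h
      exact absurd (Finset.mem_univ _) h

theorem val_tv {a b : Fin n} (hab : a ≠ b) (s : F) : (tv a b s : Matrix.SpecialLinearGroup (Fin n) F).1 =
    1 + Matrix.single a b s := by
  rw [tv_of_ne hab]
  rfl

theorem map_tv {a b : Fin n} (hab : a ≠ b) (s : F) (τ : F ≃+* F) :
    ((tv a b s : Matrix.SpecialLinearGroup (Fin n) F).1).map τ = 1 + Matrix.single a b (τ s) := by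
  rw [val_tv hab]
  ext i j
  simp only [Matrix.map_apply, Matrix.add_apply, map_add, Matrix.one_apply, Matrix.single_apply, apply_ite τ, map_one,
    map_zero]

theorem swapC_single (d : Fin n → F) (hd : ∀ a, d a ≠ 0) (a b : Fin n) (x : F) :
    (swapC d hd : Matrix (Fin n) (Fin n) F) * Matrix.single b a x * ((swapC d hd)⁻¹ : GL (Fin n) F).1 =
      Matrix.single (Fin.rev b) (Fin.rev a) ((d b)⁻¹ * x * d a) := by
  ext i j
  have h1 : ∀ k, ((swapC d hd : Matrix (Fin n) (Fin n) F) * Matrix.single b a x) i k =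
      if k = a then (if i = Fin.rev b then (d b)⁻¹ * x else 0) else 0 := by
    intro k
    by_cases hk : k = a
    · subst hk
      rw [Matrix.mul_single_apply_same, if_pos rfl]
      change (if i = Fin.rev b then (d b)⁻¹ else 0) * x = _
      split_ifs
      · rfl
      · rw [zero_mul]
    · rw [Matrix.mul_single_apply_of_ne _ _ _ _ _ (Ne.symm (Ne.symm hk)), if_neg hk]
  rw [Matrix.mul_apply, Finset.sum_eq_single a]
  · rw [h1, if_pos rfl]
    change (if i = Fin.rev b then (d b)⁻¹ * x else 0) * (if j = Fin.rev a then d a else 0) = _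
    rw [Matrix.single_apply]
    by_cases hi : i = Fin.rev b
    · by_cases hj : j = Fin.rev a
      · rw [if_pos hi, if_pos hj, if_pos ⟨hi.symm, hj.symm⟩]
      · rw [if_neg hj, mul_zero, if_neg (fun h => hj h.2.symm)]
    · rw [if_neg hi, zero_mul, if_neg (fun h => hi h.1.symm)]
  · intro k _ hk
    rw [h1, if_neg hk, zero_mul]
  · intro h
    exact absurd (Finset.mem_univ _) h

theorem swapHom_tv (d : Fin n → F) (hd : ∀ a, d a ≠ 0) (τ : F ≃+* F) {a b : Fin n} (hab : a ≠ b) (s : F) :
    swapHom (swapC d hd) τ (tv a b s) = tv (Fin.rev b) (Fin.rev a) (-(d a * τ s * (d b)⁻¹)) := by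
  have hab' : Fin.rev b ≠ Fin.rev a := fun h => hab (Fin.rev_injective h).symm
  apply Subtype.ext
  rw [coe_swapHom, ← tv_neg, val_tv hab', map_tv hab, map_neg, Matrix.transpose_add, Matrix.transpose_one,
    Matrix.transpose_single, mul_add, add_mul, mul_one, swapC_single]
  congr 1
  · rw [← Units.val_mul, mul_inv_cancel, Units.val_one]
  · congr 1
    ring

variable [Finite F] {Y : Type*} [Group Y] {φ : Matrix.SpecialLinearGroup (Fin n) F →* Y}

theorem hom_ext_tv (hn : 3 ≤ n) {α β : Matrix.SpecialLinearGroup (Fin n) F →* Y}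
    (h : ∀ a b : Fin n, a ≠ b → ∀ s : F, α (tv a b s) = β (tv a b s)) : α = β := by
  have : Nontrivial (Fin n) := Fin.nontrivial_iff_two_le.2 (by omega)
  ext x
  refine Cfsg.Agent.LieClassical.SLGen.transvection_induction (fun x => α x = β x) ?_ ?_ x
  · intro a b hab s
    have := h a b hab s
    rwa [tv_of_ne hab] at this
  · intro x y hx hy
    rw [map_mul, map_mul, hx, hy]

/-- **Elements which interchange the root groups.** -/
theorem exists_swap (hn : 3 ≤ n) (hinj : ∀ a b : Fin n, a ≠ b → Function.Injective fun t : F => φ (tv a b t)) {g : Y}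
    (hg : ∀ a b : Fin n, a ≠ b → ∀ s : F, ∃ t : F, g * φ (tv a b s) * g⁻¹ = φ (tv (Fin.rev b) (Fin.rev a) t)) :
    ∃ (τ : F ≃+* F) (C : GL (Fin n) F), ∀ x, g * φ x * g⁻¹ = φ (swapHom C τ x) := by
  choose! f hf using hg
  have hrev : ∀ {a b : Fin n}, a ≠ b → Fin.rev b ≠ Fin.rev a := fun hab h => hab (Fin.rev_injective h).symm
  obtain ⟨τ, d, hd, hτ⟩ := exists_ringEquiv hn (f := fun a b s => -f a b s) (by
      intro a b hab s t
      have h1 := hf a b hab (s + t)
      rw [tv_add, map_mul] at h1
      have h2 : g * (φ (tv a b s) * φ (tv a b t)) * g⁻¹ = (g * φ (tv a b s) * g⁻¹) * (g * φ (tv a b t) * g⁻¹) := by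
        group
      rw [h2, hf a b hab, hf a b hab, ← map_mul, ← tv_add] at h1
      change -f a b (s + t) = -f a b s + -f a b t
      rw [← hinj _ _ (hrev hab) h1]
      ring) (by
      intro a b c hab hbc hac s t
      have h1 := hf a c hac (s * t)
      rw [← tv_comm hab hbc hac, map_commutatorElement, conjugate_commutatorElement] at h1
      rw [hf a b hab, hf b c hbc, ← map_commutatorElement, ← commutatorElement_inv,
        tv_comm (hrev hbc) (hrev hab) (hrev hac), ← tv_neg] at h1
      change -f a c (s * t) = -f a b s * -f b c t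
      rw [← hinj _ _ (hrev hac) h1]
      ring) (by
      intro a b hab h0
      have h1 := hf a b hab 1
      rw [neg_eq_zero.1 h0, tv_zero, map_one, mul_inv_eq_one, mul_eq_left, ← map_one φ, ← tv_zero a b] at h1
      exact one_ne_zero (hinj a b hab h1))
  refine ⟨τ, swapC d hd, fun x => ?_⟩
  have h1 : (MulAut.conj g).toMonoidHom.comp φ = φ.comp (swapHom (swapC d hd) τ) := by
    refine hom_ext_tv hn fun a b hab s => ?_
    rw [MonoidHom.comp_apply, MonoidHom.comp_apply, swapHom_tv d hd τ hab]
    change g * φ (tv a b s) * g⁻¹ = _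
    rw [hf a b hab, ← hτ a b hab s, neg_neg]
  exact DFunLike.congr_fun h1 x

end swap

end Cfsg.Agent.H297.RIM
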